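import Cfsg.Agent.H955.QSpace

/-!
# S5719, EV5: opposite totally singular subspaces (helper212)
-/

set_option autoImplicit false
set_option linter.unusedSectionVars false

namespace Cfsg.Agent.H212.IFE

open QuadraticMap Module Cfsg Cfsg.Agent.LieClassical.OrthCore Cfsg.Agent.H955

/-- the polar form vanishes on totally singular subspaces -/
theorem polar_ts {F V : Type*} [Field F] [AddCommGroup V] [Module F V] {Q : QuadraticForm F V} {W : Submodule F V}
    (hW : ∀ v ∈ W, Q v = 0) {x y : V} (hx : x ∈ W) (hy : y ∈ W) : polar Q x y = 0 := by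
  rw [polar, hW _ (W.add_mem hx hy), hW x hx, hW y hy]
  ring

/-- one step: `W ∩ Y ≠ 0` can be made smaller -/
theorem step {F V : Type*} [Field F] [AddCommGroup V] [Module F V] [FiniteDimensional F V]
    {Q : QuadraticForm F V} (hQ : Nondeg Q) {l : ℕ} (hd : finrank F V = 2 * l) {W Y : Submodule F V}
    (hW : ∀ v ∈ W, Q v = 0) (hY2 : finrank F Y = l) (hY : ∀ v ∈ Y, Q v = 0) (hne : W ⊓ Y ≠ ⊥) :
    ∃ Y' : Submodule F V, finrank F Y' = l ∧ (∀ v ∈ Y', Q v = 0) ∧
      finrank F (W ⊓ Y' : Submodule F V) < finrank F (W ⊓ Y : Submodule F V) := by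
  obtain ⟨u, hu, hu0⟩ := Submodule.exists_mem_ne_zero_of_ne_bot hne
  obtain ⟨huW, huY⟩ := Submodule.mem_inf.1 hu
  have hle : Submodule.span F {u} ≤ Y := by
    rw [Submodule.span_singleton_le_iff_mem]
    exact huY
  -- a hyperplane of `Y`
  obtain ⟨N, hN1, hN2⟩ : ∃ N : Submodule F V, Submodule.span F {u} ⊓ N = ⊥ ∧ Submodule.span F {u} ⊔ N = Y := by
    obtain ⟨C, hC⟩ := Submodule.exists_isCompl ((Submodule.span F {u}).comap Y.subtype)
    refine ⟨C.map Y.subtype, ?_, ?_⟩
    · rw [eq_bot_iff]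
      intro x hx
      obtain ⟨h1, ⟨y, hy, rfl⟩⟩ := Submodule.mem_inf.1 hx
      have h2 : y ∈ (Submodule.span F {u}).comap Y.subtype ⊓ C := ⟨h1, hy⟩
      rw [hC.inf_eq_bot, Submodule.mem_bot] at h2
      rw [h2, map_zero]
      exact Submodule.zero_mem _
    · have h1 := congrArg (Submodule.map Y.subtype) hC.sup_eq_top
      rw [Submodule.map_sup, Submodule.map_top, Submodule.range_subtype, Submodule.map_comap_subtype,
        inf_eq_right.2 hle] at h1
      exact h1
  have hNY : N ≤ Y := by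
    rw [← hN2]
    exact le_sup_right
  have huN : u ∉ N := by
    intro h
    have h1 : u ∈ Submodule.span F {u} ⊓ N := ⟨Submodule.mem_span_singleton_self u, h⟩
    rw [hN1, Submodule.mem_bot] at h1
    exact hu0 h1
  have hNd : finrank F N + 1 = l := by
    have h1 := Submodule.finrank_sup_add_finrank_inf_eq (Submodule.span F {u}) N
    rw [hN1, hN2, finrank_bot, finrank_span_singleton hu0, hY2] at h1
    omega
  -- a vector of `N^⊥` outside `Y`
  obtain ⟨v₀, hv1, hv2⟩ : ∃ v₀, v₀ ∈ perp Q N ∧ v₀ ∉ Y := by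
    by_contra hcon
    push Not at hcon
    have h1 : perp Q N ≤ Y := fun x hx => hcon x hx
    have h2 := Submodule.finrank_mono h1
    have h3 := finrank_perp hQ N
    omega
  have hYp : perp Q Y = Y := by
    symm
    apply Submodule.eq_of_le_of_finrank_eq
    · intro y hy
      rw [mem_perp]
      intro z hz
      exact polar_ts hY hz hy
    · have h3 := finrank_perp hQ Y
      omega
  have hb : polar Q u v₀ ≠ 0 := by
    intro h0
    apply hv2
    rw [← hYp, mem_perp]
    intro z hz
    rw [← hN2] at hz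
    obtain ⟨a, ha, n, hn, rfl⟩ := Submodule.mem_sup.1 hz
    obtain ⟨c, rfl⟩ := Submodule.mem_span_singleton.1 ha
    rw [polar_add_left, polar_smul_left, h0, smul_zero, zero_add]
    exact mem_perp.1 hv1 n hn
  -- a singular vector
  set v := v₀ + (-(Q v₀) * (polar Q u v₀)⁻¹) • u with hv
  have hvN : ∀ n ∈ N, polar Q n v = 0 := by
    intro n hn
    rw [hv, polar_add_right, polar_smul_right, mem_perp.1 hv1 n hn, polar_ts hY (hNY hn) huY, smul_zero, add_zero]
  have hvs : Q v = 0 := by
    rw [hv, QuadraticMap.map_add Q, QuadraticMap.map_smul, hY u huY, polar_smul_right, polar_comm (⇑Q) v₀ u,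
      smul_eq_mul, smul_eq_mul, mul_assoc (-(Q v₀)) _ (polar Q u v₀), inv_mul_cancel₀ hb]
    ring
  have huv : polar Q u v ≠ 0 := by
    rw [hv, polar_add_right, polar_smul_right, polar_ts hY huY huY, smul_zero, add_zero]
    exact hb
  have hv0 : v ≠ 0 := by
    intro h
    apply huv
    rw [h, polar_zero_right]
  -- elements of `N + ⟨v⟩` perpendicular to `u`
  have key : ∀ z ∈ N ⊔ Submodule.span F {v}, polar Q u z = 0 → z ∈ N := by
    intro z hz h0
    obtain ⟨n, hn, a, ha, rfl⟩ := Submodule.mem_sup.1 hz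
    obtain ⟨c, rfl⟩ := Submodule.mem_span_singleton.1 ha
    rw [polar_add_right, polar_smul_right, polar_ts hY huY (hNY hn), zero_add, smul_eq_mul] at h0
    rw [(mul_eq_zero.1 h0).resolve_right huv, zero_smul, add_zero]
    exact hn
  refine ⟨N ⊔ Submodule.span F {v}, ?_, ?_, ?_⟩
  · have h1 := Submodule.finrank_sup_add_finrank_inf_eq N (Submodule.span F {v})
    have h2 : N ⊓ Submodule.span F {v} = ⊥ := by
      rw [eq_bot_iff]
      intro x hx
      obtain ⟨h3, h4⟩ := Submodule.mem_inf.1 hx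
      obtain ⟨c, rfl⟩ := Submodule.mem_span_singleton.1 h4
      have h5 := polar_ts hY huY (hNY h3)
      rw [polar_smul_right, smul_eq_mul] at h5
      rw [(mul_eq_zero.1 h5).resolve_right huv, zero_smul]
      exact Submodule.zero_mem _
    rw [h2, finrank_bot, finrank_span_singleton hv0] at h1
    omega
  · intro z hz
    obtain ⟨n, hn, a, ha, rfl⟩ := Submodule.mem_sup.1 hz
    obtain ⟨c, rfl⟩ := Submodule.mem_span_singleton.1 ha
    rw [QuadraticMap.map_add Q, QuadraticMap.map_smul, hvs, hY n (hNY hn), polar_smul_right, hvN n hn]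
    simp
  · apply Submodule.finrank_lt_finrank_of_lt
    refine lt_of_le_of_ne ?_ ?_
    · intro z hz
      obtain ⟨h1, h2⟩ := Submodule.mem_inf.1 hz
      exact ⟨h1, hNY (key z h2 (polar_ts hW huW h1))⟩
    · intro h
      have h1 : u ∈ W ⊓ (N ⊔ Submodule.span F {v}) := by
        rw [h]
        exact hu
      exact huN (key u (Submodule.mem_inf.1 h1).2 (polar_ts hW huW huW))

/-- EV5. an opposite totally singular subspace -/
theorem exists_opp {F V : Type*} [Field F] [AddCommGroup V] [Module F V] [FiniteDimensional F V]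
    {Q : QuadraticForm F V} (hQ : Nondeg Q) {l : ℕ} (hd : finrank F V = 2 * l) {X : Submodule F V}
    (hX : ∀ v ∈ X, Q v = 0) (hX2 : finrank F X = l) {W : Submodule F V} (hW : ∀ v ∈ W, Q v = 0) :
    ∃ Y : Submodule F V, finrank F Y = l ∧ (∀ v ∈ Y, Q v = 0) ∧ W ⊓ Y = ⊥ := by
  have key : ∀ (n : ℕ) (Y : Submodule F V), finrank F (W ⊓ Y : Submodule F V) = n → finrank F Y = l →
      (∀ v ∈ Y, Q v = 0) → ∃ Y : Submodule F V, finrank F Y = l ∧ (∀ v ∈ Y, Q v = 0) ∧ W ⊓ Y = ⊥ := by
    intro n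
    induction n using Nat.strong_induction_on with
    | _ n ih =>
      intro Y hn hY2 hY
      by_cases h : W ⊓ Y = ⊥
      · exact ⟨Y, hY2, hY, h⟩
      · obtain ⟨Y', h1, h2, h3⟩ := step hQ hd hW hY2 hY h
        exact ih _ (hn ▸ h3) Y' rfl h1 h2
  exact key _ X rfl hX2 hX

end Cfsg.Agent.H212.IFE
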